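import Groth.Agent.AbDual95.Poincare
import Groth.Agent.Cube7.Mumford
import Groth.Agent.Cube7.AbGeom
import Groth.Agent.FGA29.IntNumBC

/-!
The homomorphism attached to an invertible module on an abelian scheme over a connected base: it is
trivial as soon as it is trivial on one fibre.
-/

set_option autoImplicit false
set_option maxSynthPendingDepth 6
set_option linter.style.haveILetI false
set_option backward.isDefEq.respectTransparency.types false

noncomputable section

universe u

open CategoryTheory CategoryTheory.Limits MonoidalCategory CartesianMonoidalCategory MonObj GrpObj AlgebraicGeometry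
open Groth.Agent.FGA29 Groth.Agent.H98PicRel

namespace Groth.Agent.AbLam7

theorem pullCl_comp' {A B C : Scheme.{u}} (g : A ⟶ B) (h : B ⟶ C) (c : PicF.Cl C) :
    PicF.pullCl g (PicF.pullCl h c) = PicF.pullCl (g ≫ h) c := (pullCl_comp g h c).symm

variable {S : Scheme.{u}} {A : Over S} [GrpObj A] {a b : PicF.Cl A.left}
  {n : PicF.Cl (A ⊗ A).left}

/-- The value of a Mumford class at a pair of points. -/
theorem pull_lift
    (hn : n * PicF.pullCl (fst A A).left a * PicF.pullCl (snd A A).left a = PicF.pullCl μ[A].left a)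
    {W : Over S} (x y : W ⟶ A) :
    PicF.pullCl (lift x y).left n * PicF.pullCl x.left a * PicF.pullCl y.left a =
      PicF.pullCl (x * y).left a := by
  have h := congrArg (FGA29.pullClHom (lift x y).left) hn
  rw [map_mul, map_mul] at h
  change PicF.pullCl (lift x y).left n * PicF.pullCl (lift x y).left (PicF.pullCl _ a) *
    PicF.pullCl (lift x y).left (PicF.pullCl _ a) = PicF.pullCl (lift x y).left (PicF.pullCl _ a) at h
  rw [pullCl_comp', pullCl_comp', pullCl_comp', ← Over.comp_left, ← Over.comp_left, ← Over.comp_left,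
    lift_fst, lift_snd, ← Hom.mul_def] at h
  exact h

variable (hab : a * b = 1)
  (hn : n * PicF.pullCl (fst A A).left a * PicF.pullCl (snd A A).left a = PicF.pullCl μ[A].left a)

include hab in
theorem one_pull {W : Over S} : PicF.pullCl (1 : W ⟶ A).left a *
    PicF.pullCl W.hom (PicF.pullCl η[A].left b) = 1 := by
  rw [pullCl_comp', Cube7.one_left]
  show FGA29.pullClHom _ a * FGA29.pullClHom _ b = 1
  rw [← map_mul, hab, map_one]

include hab hn in
theorem pull_one_snd {W : Over S} (y : W ⟶ A) :
    PicF.pullCl (lift 1 y).left n = PicF.pullCl W.hom (PicF.pullCl η[A].left b) := by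
  have h := pull_lift hn (1 : W ⟶ A) y
  rw [_root_.one_mul] at h
  have hy : PicF.pullCl y.left a * PicF.pullCl y.left b = 1 := by
    show FGA29.pullClHom _ a * FGA29.pullClHom _ b = 1
    rw [← map_mul, hab, map_one]
  have h2 : PicF.pullCl (lift 1 y).left n * PicF.pullCl (1 : W ⟶ A).left a = 1 := by
    have := congrArg (· * PicF.pullCl y.left b) h
    simpa only [_root_.mul_assoc, hy, _root_.mul_one] using this
  exact left_inv_eq_right_inv h2 (one_pull hab)

include hab hn in
theorem pull_one_fst {W : Over S} (x : W ⟶ A) :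
    PicF.pullCl (lift x 1).left n = PicF.pullCl W.hom (PicF.pullCl η[A].left b) := by
  have h := pull_lift hn x (1 : W ⟶ A)
  rw [_root_.mul_one] at h
  have hx : PicF.pullCl x.left a * PicF.pullCl x.left b = 1 := by
    show FGA29.pullClHom _ a * FGA29.pullClHom _ b = 1
    rw [← map_mul, hab, map_one]
  have h2 : PicF.pullCl (lift x 1).left n * PicF.pullCl (1 : W ⟶ A).left a = 1 := by
    have := congrArg (· * PicF.pullCl x.left b) h
    simp only [hx] at this
    rw [← this, mul_right_comm _ (PicF.pullCl x.left a), _root_.mul_assoc _ (PicF.pullCl x.left a), hx,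
      _root_.mul_one]
  exact left_inv_eq_right_inv h2 (one_pull hab)

variable [IsProper A.hom] [Smooth A.hom] [GeometricallyConnected A.hom]

/-- The Mumford class is algebraically equivalent to zero on every geometric fibre. -/
theorem isPicZeroCl_mumford {N : (PicF.XT A.hom A).Modules} (hN : PicF.IsInvertible N)
    (hab : a * b = 1) (hb : PicF.IsInvertibleCl b)
    (hn : (PicF.cl N : PicF.Cl (A ⊗ A).left) * PicF.pullCl (fst A A).left a *
      PicF.pullCl (snd A A).left a = PicF.pullCl μ[A].left a) :
    AbDual.IsPicZeroCl A.hom A (PicF.cl N) := by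
  refine ⟨N, rfl, hN, fun t Ω _ _ σ _ => ?_⟩
  let X' := pullback (PicF.XTproj A.hom A) σ
  let p : X' ⟶ Spec (CommRingCat.of Ω) := pullback.snd _ σ
  letI : X'.Over (Spec (CommRingCat.of Ω)) := ⟨p⟩
  let y : X' ⟶ A.left := pullback.fst (PicF.XTproj A.hom A) σ ≫ pullback.fst A.hom A.hom
  have hy : y ≫ A.hom = p ≫ σ ≫ A.hom := by
    show (_ ≫ _) ≫ _ = _
    rw [Category.assoc, pullback.condition, ← pullback.condition_assoc]
  haveI : GeometricallyConnected p :=
    haveI : GeometricallyConnected (PicF.XTproj A.hom A) :=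
      inferInstanceAs (GeometricallyConnected (pullback.snd A.hom A.hom))
    inferInstanceAs (GeometricallyConnected (pullback.snd (PicF.XTproj A.hom A) σ))
  haveI : IsProper p :=
    haveI : IsProper (PicF.XTproj A.hom A) := inferInstanceAs (IsProper (pullback.snd A.hom A.hom))
    inferInstanceAs (IsProper (pullback.snd (PicF.XTproj A.hom A) σ))
  haveI : Subsingleton ↥(Spec (CommRingCat.of Ω)) := inferInstanceAs (Subsingleton (PrimeSpectrum Ω))
  haveI : Nonempty ↥(Spec (CommRingCat.of Ω)) := ⟨IsLocalRing.closedPoint Ω⟩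
  haveI : ConnectedSpace X' := GeometricallyConnected.connectedSpace_of_subsingleton p
  let Q := Pic13.prodK Ω X' p
  let j : Q ⟶ PicF.XT A.hom A := pullback.lift (pullback.fst _ _ ≫ y) (pullback.snd _ _ ≫ y)
    ((Category.assoc _ _ _).trans ((congrArg (pullback.fst p p ≫ ·) hy).trans
      ((pullback.condition_assoc _).trans ((congrArg (pullback.snd p p ≫ ·) hy).symm.trans
        (Category.assoc _ _ _).symm))))
  let t₁ : Spec (CommRingCat.of Ω) ⟶ X' := pullback.lift (pullback.lift σ σ rfl) (𝟙 _)
    (by rw [Category.id_comp]; exact pullback.lift_snd _ _ _)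
  let t₀ : Spec (CommRingCat.of Ω) ⟶ X' := pullback.lift
    (pullback.lift (σ ≫ A.hom ≫ η[A].left) σ
      (by rw [Category.assoc, Category.assoc, Cube7.unit_hom, Category.comp_id]))
    (𝟙 _) (by rw [Category.id_comp]; exact pullback.lift_snd _ _ _)
  have ht₁ : t₁ ≫ p = 𝟙 _ := pullback.lift_snd _ _ _
  have ht₀ : t₀ ≫ p = 𝟙 _ := pullback.lift_snd _ _ _
  have h₁ : Pic13.sliceAt Ω X' p t₁ ht₁ ≫ j = pullback.fst (PicF.XTproj A.hom A) σ := by
    refine pullback.hom_ext ?_ ?_
    · simp only [j, Category.assoc, pullback.lift_fst, Pic13.sliceAt, pullback.lift_fst_assoc, Category.id_comp]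
      rfl
    · simp only [j, Category.assoc, pullback.lift_snd, Pic13.sliceAt, pullback.lift_snd_assoc]
      show p ≫ t₁ ≫ pullback.fst _ _ ≫ pullback.fst _ _ = _
      rw [pullback.lift_fst_assoc, pullback.lift_fst]
      exact pullback.condition.symm
  let W : Over S := Over.mk (p ≫ σ ≫ A.hom)
  let u : W ⟶ A := Over.homMk y hy
  have h₀ : Pic13.sliceAt Ω X' p t₀ ht₀ ≫ j = (lift u (1 : W ⟶ A)).left := by
    refine pullback.hom_ext ?_ ?_
    · simp only [j, Category.assoc, pullback.lift_fst, Pic13.sliceAt, pullback.lift_fst_assoc, Category.id_comp]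
      show y = (lift u (1 : W ⟶ A)).left ≫ (fst A A).left
      rw [← Over.comp_left, lift_fst]
      rfl
    · simp only [j, Category.assoc, pullback.lift_snd, Pic13.sliceAt, pullback.lift_snd_assoc]
      show p ≫ t₀ ≫ pullback.fst _ _ ≫ pullback.fst _ _ = (lift u (1 : W ⟶ A)).left ≫ (snd A A).left
      rw [pullback.lift_fst_assoc, pullback.lift_fst, ← Over.comp_left, lift_snd, Cube7.one_left]
      exact ((Category.assoc p (σ ≫ A.hom) η[A].left).trans (congrArg (p ≫ ·) (Category.assoc _ _ _))).symm
  refine ⟨X', p, inferInstance, inferInstance, inferInstance, _, Amp73.isInvertible_pullback j hN, t₁, t₀,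
    ht₁, ht₀, ⟨(Scheme.Modules.pullbackComp _ j).app N ≪≫ (Scheme.Modules.pullbackCongr h₁).app N⟩, ?_⟩
  obtain ⟨eN⟩ : Nonempty ((Scheme.Modules.pullback (lift u (1 : W ⟶ A)).left).obj N ≅ Coh.structureModule _) := by
    refine nonempty_iso_of_cl ?_
    show PicF.pullCl (lift u (1 : W ⟶ A)).left (PicF.cl N) = 1
    rw [pull_one_fst hab hn u, pullCl_comp']
    show PicF.pullCl ((p ≫ σ ≫ A.hom) ≫ η[A].left) b = 1
    rw [Category.assoc, pullCl_comp, AbDual95.pullCl_eq_one_of_field (isInvertibleCl_pullCl _ hb),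
      SymPhi99.pullCl_one]
  exact ⟨(Scheme.Modules.pullbackComp _ j).app N ≪≫ (Scheme.Modules.pullbackCongr h₀).app N ≪≫ eN⟩

variable {At : Over S} [GrpObj At] [ConnectedSpace S]
  {φ : ∀ T : Over S, PicF.Cl (PicF.XT A.hom T) → (T ⟶ At)}

/-- If the homomorphism attached to an invertible module is trivial on one fibre it is trivial. -/
theorem lambda_eq_one (hφ : AbDual.IsDualAV Scheme.fppfPrecoverage A At φ)
    {L : A.left.Modules} (hL : PicF.IsInvertible L) {lam : A ⟶ At} (hlam : AgPol.IsLambda A At φ L lam)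
    (s : S) (h : (Over.pullback (S.fromSpecResidueField s)).map lam = 1) : lam = 1 := by
  obtain ⟨N, hNi, ⟨eN⟩, hlamN⟩ := hlam
  have hn : (PicF.cl N : PicF.Cl (A ⊗ A).left) * PicF.pullCl (fst A A).left (PicF.cl L) *
      PicF.pullCl (snd A A).left (PicF.cl L) = PicF.pullCl μ[A].left (PicF.cl L) := Quot.sound ⟨eN⟩
  obtain ⟨b, hb, hab⟩ := AbDual95.exists_inv_cl (⟨L, rfl, hL⟩ : PicF.IsInvertibleCl (PicF.cl L))
  have hN0 := isPicZeroCl_mumford hNi hab hb hn
  let d := PicF.pullCl A.hom (PicF.pullCl η[A].left (PicF.cl L))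
  have hd : PicF.IsInvertibleCl d :=
    isInvertibleCl_pullCl _ (isInvertibleCl_pullCl _ ⟨L, rfl, hL⟩)
  let n' : PicF.Cl (PicF.XT A.hom A) := PicF.cl N * PicF.pullCl (PicF.XTproj A.hom A) d
  have hn'0 : AbDual.IsPicZeroCl A.hom A n' := AbDual95.isPicZeroCl_baseMul A.hom hN0 hd
  have hφn : φ A n' = lam := (AbDual95.phi_baseMul hφ hN0 hd).trans hlamN
  -- the rigidifications
  have hslice : ∀ {W : Over S} (z : W ⟶ A ⊗ A), z ≫ fst A A = 1 ∨ z ≫ snd A A = 1 →
      PicF.pullCl z.left n' = 1 := by
    intro W z hz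
    have hbase : PicF.pullCl z.left (PicF.pullCl (PicF.XTproj A.hom A) d) =
        PicF.pullCl W.hom (PicF.pullCl η[A].left (PicF.cl L)) := by
      rw [pullCl_comp', pullCl_comp']
      refine SymPhi99.pullCl_congr ?_ _
      show (z.left ≫ (snd A A).left) ≫ A.hom = W.hom
      rw [← Over.comp_left, Over.w]
    show FGA29.pullClHom z.left (PicF.cl N * PicF.pullCl (PicF.XTproj A.hom A) d) = 1
    rw [map_mul]
    show PicF.pullCl z.left (PicF.cl N) * PicF.pullCl z.left (PicF.pullCl (PicF.XTproj A.hom A) d) = 1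
    rw [hbase]
    have hN : PicF.pullCl z.left (PicF.cl N) = PicF.pullCl W.hom (PicF.pullCl η[A].left b) := by
      rw [show z = lift (z ≫ fst A A) (z ≫ snd A A) by rw [← comp_lift, lift_fst_snd, Category.comp_id]]
      rcases hz with hz | hz <;> rw [hz]
      exacts [pull_one_snd hab hn _, pull_one_fst hab hn _]
    rw [hN, pullCl_comp', pullCl_comp']
    show FGA29.pullClHom _ b * FGA29.pullClHom _ (PicF.cl L) = 1
    rw [← map_mul, _root_.mul_comm b, hab, map_one]
  let e1 : A ⟶ A ⊗ A := lift 1 (𝟙 A)
  let e2 : A ⟶ A ⊗ A := lift (𝟙 A) 1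
  have he1 : PicF.secT A.hom η[A].left (Over.w η[A]) A = e1.left := by
    refine pullback.hom_ext ?_ ?_
    · refine (pullback.lift_fst _ _ _).trans ?_
      show A.hom ≫ η[A].left = e1.left ≫ (fst A A).left
      rw [← Over.comp_left, lift_fst, Cube7.one_left]
    · refine (pullback.lift_snd _ _ _).trans ?_
      show (𝟙 A : A ⟶ A).left = e1.left ≫ (snd A A).left
      rw [← Over.comp_left, lift_snd]
  -- triviality over the point
  let i := S.fromSpecResidueField s
  let T : Over S := Over.mk (pullback.fst A.hom i ≫ A.hom)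
  let x : T ⟶ A := Over.homMk (pullback.fst A.hom i) rfl
  have hx : x ≫ lam = 1 := by
    have h1 : (Over.pullback i).map lam = (Over.pullback i).map (1 : A ⟶ At) :=
      h.trans (map_one (Functor.homMonoidHom (Over.pullback i) : (A ⟶ At) →* ((Over.pullback i).obj A ⟶ (Over.pullback i).obj At))).symm
    rw [← MonObj.comp_one x]
    refine Over.OverMorphism.ext ?_
    have h2 := congrArg (fun m => m.left ≫ pullback.fst At.hom i) h1
    exact (pullback.lift_fst _ _ _).symm.trans (h2.trans (pullback.lift_fst _ _ _))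
  have hphi1 : φ T (1 : PicF.Cl (PicF.XT A.hom T)) = 1 := by
    have h11 := AbDual95.phi_mul hφ (AbDual95.isPicZeroCl_one A.hom T) (AbDual95.isPicZeroCl_one A.hom T)
    rw [_root_.one_mul] at h11
    exact left_eq_mul.1 h11
  have hfib : PicF.pullCl (PicF.XTmap A.hom x) n' = 1 := by
    refine AbDual95.eq_of_phi_eq_rigid hφ (SymPhi99.isPicZeroCl_pullCl A.hom x hn'0)
      (AbDual95.isPicZeroCl_one A.hom T) ?_ (SymPhi99.pullCl_one _) ?_
    · rw [pullCl_comp', show PicF.secT A.hom η[A].left (Over.w η[A]) T ≫ PicF.XTmap A.hom x =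
          x.left ≫ PicF.secT A.hom η[A].left (Over.w η[A]) A by
        refine pullback.hom_ext ?_ ?_
        · simp only [PicF.secT, Category.assoc, XTmap_fst, pullback.lift_fst]
          rw [← Category.assoc, Over.w x]
        · simp only [PicF.secT, Category.assoc, XTmap_snd, pullback.lift_snd, pullback.lift_snd_assoc,
            Category.id_comp, Category.comp_id],
        ← pullCl_comp', he1, hslice e1 (Or.inl (lift_fst _ _)), SymPhi99.pullCl_one]
    · rw [hφ.relPic.natural A T x n' hn'0, hφn, hx, hphi1]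
  -- the cube
  obtain ⟨N', hN', hN'i⟩ := SymPhi99.isInvertibleCl_of_picZero A.hom hn'0
  haveI := AbSch7.geometricallyReduced_of_smooth A.hom
  haveI := Cube7.geometricallyIntegral_of_group A
  let D₀ := Cube73.unitDatum A.hom A.hom η[A].left (Cube7.unit_hom A) η[A].left (Cube7.unit_hom A)
  have k1 : D₀.ix = e1.left := he1 ▸ pullback.hom_ext
    ((pullback.lift_fst _ _ _).trans (pullback.lift_fst _ _ _).symm)
    ((pullback.lift_snd _ _ _).trans (pullback.lift_snd _ _ _).symm)
  have k2 : D₀.iy = e2.left := by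
    refine pullback.hom_ext ?_ ?_
    · refine (pullback.lift_fst _ _ _).trans ?_
      show (𝟙 A : A ⟶ A).left = e2.left ≫ (fst A A).left
      rw [← Over.comp_left, lift_fst]
    · refine (pullback.lift_snd _ _ _).trans ?_
      show A.hom ≫ η[A].left = e2.left ≫ (snd A A).left
      rw [← Over.comp_left, lift_snd, Cube7.one_left]
  let D : Cube73.Datum S :=
    { D₀ with
      L := N'
      hL := hN'i
      trivY := nonempty_iso_of_cl (by
        show PicF.pullCl D₀.ix (PicF.cl N') = 1
        rw [hN', k1]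
        exact hslice e1 (Or.inl (lift_fst _ _)))
      trivX := nonempty_iso_of_cl (by
        show PicF.pullCl D₀.iy (PicF.cl N') = 1
        rw [hN', k2]
        exact hslice e2 (Or.inr (lift_snd _ _))) }
  have htriv : D.TrivAt s := by
    let q : pullback A.hom A.hom ⟶ S := pullback.fst A.hom A.hom ≫ A.hom
    show Nonempty ((Scheme.Modules.pullback (q.fiberι s)).obj N' ≅ Coh.structureModule _)
    refine nonempty_iso_of_cl ?_
    show PicF.pullCl (q.fiberι s) (PicF.cl N') = 1
    let e : q.fiber s ⟶ PicF.XT A.hom T := pullback.lift (pullback.fst q i ≫ pullback.fst A.hom A.hom)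
      (pullback.lift (pullback.fst q i ≫ pullback.snd A.hom A.hom) (pullback.snd q i) (by
        rw [Category.assoc, ← pullback.condition]
        exact pullback.condition)) (by
        show _ = _ ≫ pullback.fst A.hom i ≫ A.hom
        rw [pullback.lift_fst_assoc, Category.assoc, Category.assoc, pullback.condition])
    have he : e ≫ PicF.XTmap A.hom x = q.fiberι s := by
      refine pullback.hom_ext ?_ ?_
      · rw [Category.assoc, XTmap_fst]
        exact pullback.lift_fst _ _ _
      · rw [Category.assoc, XTmap_snd, pullback.lift_snd_assoc]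
        exact pullback.lift_fst _ _ _
    rw [← he, pullCl_comp, hN', hfib, SymPhi99.pullCl_one]
  obtain ⟨eT⟩ := D.trivial_of_connected (show GeometricallyIntegral A.hom from inferInstance)
    (show GeometricallyIntegral A.hom from inferInstance) ⟨s, htriv⟩
  have h1 : n' = 1 := hN'.symm.trans (Quot.sound ⟨eT⟩)
  rw [← hφn, h1]
  have h11 := AbDual95.phi_mul hφ (AbDual95.isPicZeroCl_one A.hom A) (AbDual95.isPicZeroCl_one A.hom A)
  rw [_root_.one_mul] at h11
  exact left_eq_mul.1 h11

end Groth.Agent.AbLam7
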